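import Groth.Agent.RichLib.CycCover.Local
import Groth.Agent.NormalLib.Regular
import Mathlib.RingTheory.IntegralClosure.IsIntegralClosure.Basic
import Mathlib.RingTheory.Polynomial.ScaleRoots
import Mathlib.RingTheory.LocalProperties.Reduced
import Mathlib.RingTheory.LocalProperties.IntegrallyClosed
import Mathlib.RingTheory.FiniteType
import Mathlib.RingTheory.RootsOfUnity.AlgebraicallyClosed

/-!
# Normalisation of a cyclic cover branched along a regular divisor
-/

set_option autoImplicit false
universe u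

open Polynomial

noncomputable section

namespace RichLib.CycCover

variable {B : Type u} [CommRing B] (N α : ℕ) (v : Bˣ) (f : B)

/-- the algebra of the `N`-th root -/
abbrev pp : B[X] := X ^ N - C ((v : B) * f ^ α)

/-- its localisation -/
abbrev KK : Type u := Localization.Away (algebraMap B (AdjoinRoot (pp N α v f)) f)

/-- `f` in the localisation -/
abbrev FF : KK N α v f := algebraMap B (KK N α v f) f

/-- the inverse of `f` -/
abbrev gg : KK N α v f :=
  IsLocalization.Away.invSelf (S := KK N α v f) (algebraMap B (AdjoinRoot (pp N α v f)) f)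

/-- the root -/
abbrev TT : KK N α v f :=
  algebraMap (AdjoinRoot (pp N α v f)) (KK N α v f) (AdjoinRoot.root (pp N α v f))

/-- monomials `f^e t^a f^(-b)` -/
def Mon (a b e : ℕ) : KK N α v f := FF N α v f ^ e * TT N α v f ^ a * gg N α v f ^ b

lemma FF_mul_gg : FF N α v f * gg N α v f = 1 := by
  rw [FF, IsScalarTower.algebraMap_apply B (AdjoinRoot (pp N α v f)) (KK N α v f)]
  exact IsLocalization.Away.mul_invSelf _

lemma root_pow : AdjoinRoot.root (pp N α v f) ^ N = algebraMap B _ ((v : B) * f ^ α) := by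
  have h := AdjoinRoot.eval₂_root (pp N α v f)
  rw [eval₂_sub, eval₂_X_pow, eval₂_C, sub_eq_zero] at h
  rw [h, AdjoinRoot.algebraMap_eq]

lemma TT_pow : TT N α v f ^ N = algebraMap B (KK N α v f) v * FF N α v f ^ α := by
  rw [TT, ← map_pow, root_pow, ← IsScalarTower.algebraMap_apply, map_mul, map_pow]

lemma FF_gg_cancel {x y x' y' : ℕ} (h : x + y' = x' + y) :
    FF N α v f ^ x * gg N α v f ^ y = FF N α v f ^ x' * gg N α v f ^ y' := by
  have h1 : ∀ n, FF N α v f ^ n * gg N α v f ^ n = 1 := fun n => by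
    rw [← mul_pow, FF_mul_gg, one_pow]
  calc FF N α v f ^ x * gg N α v f ^ y
      = FF N α v f ^ x * gg N α v f ^ y * (FF N α v f ^ y' * gg N α v f ^ y') := by rw [h1, mul_one]
    _ = FF N α v f ^ (x + y') * gg N α v f ^ (y + y') := by ring
    _ = FF N α v f ^ (x' + y) * gg N α v f ^ (y + y') := by rw [h]
    _ = FF N α v f ^ x' * gg N α v f ^ y' * (FF N α v f ^ y * gg N α v f ^ y) := by ring
    _ = _ := by rw [h1, mul_one]

lemma Mon_mul (a b e a' b' e' : ℕ) :
    Mon N α v f a b e * Mon N α v f a' b' e' = Mon N α v f (a + a') (b + b') (e + e') := by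
  simp only [Mon, pow_add]; ring

lemma Mon_zero : Mon N α v f 0 0 0 = 1 := by simp [Mon]

lemma Mon_pow (a b e n : ℕ) : Mon N α v f a b e ^ n = Mon N α v f (a * n) (b * n) (e * n) := by
  simp only [Mon, mul_pow, pow_mul]

lemma Mon_congr {a b e b' e' : ℕ} (h : e + b' = e' + b) : Mon N α v f a b e = Mon N α v f a b' e' := by
  simp only [Mon]
  rw [mul_right_comm, FF_gg_cancel N α v f h, mul_right_comm]

lemma Mon_add_N (a b e : ℕ) :
    Mon N α v f (a + N) b e = algebraMap B _ (v : B) * Mon N α v f a b (e + α) := by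
  simp only [Mon, pow_add, TT_pow]; ring

lemma Mon_add_mul_N (a b e n : ℕ) :
    Mon N α v f (a + n * N) b e = algebraMap B _ ((v : B) ^ n) * Mon N α v f a b (e + n * α) := by
  induction n generalizing e with
  | zero => simp
  | succ n ih =>
    rw [show a + (n + 1) * N = a + n * N + N by ring, Mon_add_N, ih, pow_succ, map_mul,
      show e + α + n * α = e + (n + 1) * α by ring]
    ring

/-- the generators -/
abbrev Egen (i : Fin N) : KK N α v f := Mon N α v f i ((i : ℕ) * α / N) 0

/-- their span -/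
abbrev MM : Submodule B (KK N α v f) := Submodule.span B (Set.range (Egen N α v f))

lemma Mon_mem {a b e : ℕ} (hN : 0 < N) (h : b * N ≤ a * α + e * N) :
    Mon N α v f a b e ∈ MM N α v f := by
  have hdm : a % N + a / N * N = a := by rw [mul_comm]; exact Nat.mod_add_div a N
  have e1 : Mon N α v f a b e = Mon N α v f (a % N + a / N * N) b e := by rw [hdm]
  rw [e1, Mon_add_mul_N, ← Algebra.smul_def]
  refine Submodule.smul_mem _ _ ?_
  set k := a % N * α / N with hk
  have hb : b ≤ e + a / N * α + k := by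
    rw [hk, add_comm (e + a / N * α), ← Nat.add_mul_div_right _ _ hN, Nat.le_div_iff_mul_le hN]
    calc b * N ≤ a * α + e * N := h
      _ = (a % N + a / N * N) * α + e * N := by rw [hdm]
      _ = _ := by ring
  rw [Mon_congr N α v f (a := a % N) (b' := k) (e' := e + a / N * α + k - b) (by omega)]
  have e2 : Mon N α v f (a % N) k (e + a / N * α + k - b) =
      algebraMap B _ (f ^ (e + a / N * α + k - b)) * Egen N α v f ⟨a % N, Nat.mod_lt _ hN⟩ := by
    simp only [Egen, Mon, map_pow, pow_zero, hk]; ring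
  rw [e2, ← Algebra.smul_def]
  exact Submodule.smul_mem _ _ (Submodule.subset_span ⟨_, rfl⟩)

lemma Mon_dvd {a₁ b₁ e₁ a₂ b₂ e₂ : ℕ} (hN : 0 < N)
    (h : a₂ * α + e₂ * N + b₁ * N ≤ a₁ * α + e₁ * N + b₂ * N) :
    ∃ z ∈ MM N α v f, Mon N α v f a₁ b₁ e₁ = Mon N α v f a₂ b₂ e₂ * z := by
  refine ⟨((↑(v⁻¹ ^ a₂ : Bˣ) : B)) •
      Mon N α v f (a₁ + (N - 1) * a₂) (b₁ + e₂ + α * a₂) (e₁ + b₂),
    Submodule.smul_mem _ _ (Mon_mem N α v f hN ?_), ?_⟩
  · obtain ⟨N', rfl⟩ := Nat.exists_eq_succ_of_ne_zero hN.ne'
    simp only [Nat.succ_sub_one, Nat.succ_eq_add_one] at h ⊢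
    linarith
  · rw [mul_smul_comm, Mon_mul,
      show a₂ + (a₁ + (N - 1) * a₂) = a₁ + a₂ * N by
        obtain ⟨N', rfl⟩ := Nat.exists_eq_succ_of_ne_zero hN.ne'
        simp only [Nat.succ_sub_one, Nat.succ_eq_add_one]; ring,
      Mon_add_mul_N, Algebra.smul_def, ← mul_assoc, ← map_mul,
      show (↑(v⁻¹ ^ a₂ : Bˣ) : B) * (v : B) ^ a₂ = 1 by
        rw [← Units.val_pow_eq_pow_val, ← Units.val_mul, ← mul_pow, inv_mul_cancel, one_pow,
          Units.val_one], map_one, one_mul]
    exact Mon_congr N α v f (by ring)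

lemma mul_mem (hN : 0 < N) {x y : KK N α v f} (hx : x ∈ MM N α v f) (hy : y ∈ MM N α v f) :
    x * y ∈ MM N α v f := by
  induction hx using Submodule.span_induction with
  | mem x hx =>
    obtain ⟨i, rfl⟩ := hx
    induction hy using Submodule.span_induction with
    | mem y hy =>
      obtain ⟨j, rfl⟩ := hy
      rw [Mon_mul]
      refine Mon_mem N α v f hN ?_
      have h1 := Nat.div_mul_le_self ((i : ℕ) * α) N
      have h2 := Nat.div_mul_le_self ((j : ℕ) * α) N
      linarith
    | zero => rw [mul_zero]; exact Submodule.zero_mem _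
    | add a b _ _ ha hb => rw [mul_add]; exact Submodule.add_mem _ ha hb
    | smul c a _ ha => rw [mul_smul_comm]; exact Submodule.smul_mem _ _ ha
  | zero => rw [zero_mul]; exact Submodule.zero_mem _
  | add a b _ _ ha hb => rw [add_mul]; exact Submodule.add_mem _ ha hb
  | smul c a _ ha => rw [smul_mul_assoc]; exact Submodule.smul_mem _ _ ha

lemma adjoin_eq (hN : 0 < N) :
    Subalgebra.toSubmodule (Algebra.adjoin B (Set.range (Egen N α v f))) = MM N α v f := by
  refine le_antisymm ?_ (Algebra.span_le_adjoin _ _)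
  have h1 : (1 : KK N α v f) ∈ MM N α v f := by
    rw [← Mon_zero N α v f]; exact Mon_mem N α v f hN (by omega)
  intro x hx
  exact (Algebra.adjoin_le (S := (MM N α v f).toSubalgebra h1 fun a b => mul_mem N α v f hN)
    Submodule.subset_span) hx

section Domain

variable [IsDomain B] (hf : f ≠ 0) (hN : 0 < N)
include hf hN

omit hf in
lemma monic_pp : (pp N α v f).Monic := monic_X_pow_sub_C _ hN.ne'

lemma algebraMap_S_injective :
    Function.Injective (algebraMap (AdjoinRoot (pp N α v f)) (KK N α v f)) := by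
  haveI := (monic_pp N α v f hN).free_adjoinRoot
  refine IsLocalization.injective _ (M := Submonoid.powers (algebraMap B _ f)) (Submonoid.powers_le.2 ?_)
  rw [mem_nonZeroDivisors_iff_right]
  intro y hy
  rw [mul_comm, ← Algebra.smul_def] at hy
  exact (smul_eq_zero.1 hy).resolve_left hf

lemma algebraMap_B_injective : Function.Injective (algebraMap B (KK N α v f)) := by
  haveI := (monic_pp N α v f hN).free_adjoinRoot
  intro x y h
  rw [IsScalarTower.algebraMap_apply B (AdjoinRoot (pp N α v f)) (KK N α v f),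
    IsScalarTower.algebraMap_apply B (AdjoinRoot (pp N α v f)) (KK N α v f)] at h
  refine AdjoinRoot.of.injective_of_degree_ne_zero ?_ (algebraMap_S_injective N α v f hf hN h)
  rw [degree_X_pow_sub_C hN]
  exact_mod_cast hN.ne'

lemma linearIndependent_Egen : LinearIndependent B (Egen N α v f) := by
  have hpm := monic_pp N α v f hN
  rw [Fintype.linearIndependent_iff]
  intro b hb i
  set k := fun j : Fin N => (j : ℕ) * α / N
  have hk : ∀ j, k j ≤ α := fun j =>
    Nat.div_le_of_le_mul (Nat.mul_le_mul_right α j.2.le)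
  have h1 : algebraMap _ (KK N α v f)
      (AdjoinRoot.mk (pp N α v f) (∑ j, C (b j * f ^ (α - k j)) * X ^ (j : ℕ))) = 0 := by
    calc algebraMap (AdjoinRoot (pp N α v f)) (KK N α v f) (AdjoinRoot.mk (pp N α v f) (∑ j, C (b j * f ^ (α - k j)) * X ^ (j : ℕ)))
        = FF N α v f ^ α * ∑ j, b j • Egen N α v f j := by
          rw [map_sum, map_sum, Finset.mul_sum]
          refine Finset.sum_congr rfl fun j _ => ?_
          have h3 := FF_gg_cancel N α v f (x := α - k j) (y := 0) (x' := α) (y' := k j)
            (by have := hk j; omega)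
          rw [pow_zero, mul_one] at h3
          rw [map_mul (AdjoinRoot.mk _), AdjoinRoot.mk_C, map_pow, AdjoinRoot.mk_X,
            map_mul (algebraMap (AdjoinRoot (pp N α v f)) (KK N α v f)), map_pow, ← AdjoinRoot.algebraMap_eq,
            ← IsScalarTower.algebraMap_apply, map_mul, map_pow, Algebra.smul_def]
          simp only [Egen, Mon, pow_zero, one_mul]
          linear_combination (algebraMap B (KK N α v f) (b j) * TT N α v f ^ (j : ℕ)) * h3
      _ = 0 := by rw [hb, mul_zero]
  rw [← map_zero (algebraMap (AdjoinRoot (pp N α v f)) (KK N α v f))] at h1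
  have h2 := algebraMap_S_injective N α v f hf hN h1
  rw [AdjoinRoot.mk_eq_zero] at h2
  have hdeg : (∑ j, C (b j * f ^ (α - k j)) * X ^ (j : ℕ)).degree < (pp N α v f).degree := by
    rw [degree_X_pow_sub_C hN]
    exact degree_sum_fin_lt _
  have h3 := Polynomial.eq_zero_of_dvd_of_degree_lt h2 hdeg
  have h4 := congrArg (fun q : B[X] => q.coeff (i : ℕ)) h3
  simp only [coeff_zero, finset_sum_coeff, coeff_C_mul_X_pow] at h4
  rw [Finset.sum_eq_single i (fun j _ hj => if_neg (fun h => hj (Fin.ext h).symm))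
    (fun h => absurd (Finset.mem_univ i) h), if_pos rfl] at h4
  exact (mul_eq_zero.1 h4).resolve_right (pow_ne_zero _ hf)

lemma isIntegral_Mon {a b e : ℕ} (h : b * N ≤ a * α + e * N) :
    IsIntegral B (Mon N α v f a b e) := by
  refine IsIntegral.of_pow hN ?_
  rw [Mon_pow, show a * N = 0 + a * N from (zero_add _).symm, Mon_add_mul_N]
  refine (isIntegral_algebraMap).mul ?_
  have : Mon N α v f 0 (b * N) (e * N + a * α) = algebraMap B _ (f ^ (e * N + a * α - b * N)) := by
    rw [Mon_congr N α v f (a := 0) (b' := 0) (e' := e * N + a * α - b * N) (by omega)]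
    simp [Mon]
  rw [this]
  exact isIntegral_algebraMap

/-- `f^m ∣ b` if `b / f^m` is integral -/
lemma dvd_of_isIntegral [IsIntegrallyClosed B] (b : B) (m : ℕ)
    (h : IsIntegral B (algebraMap B (KK N α v f) b * gg N α v f ^ m)) : f ^ m ∣ b := by
  obtain ⟨q, hq, hq0⟩ := h
  rw [← aeval_def] at hq0
  have h1 := scaleRoots_aeval_eq_zero (r := f ^ m) hq0
  have h2 : algebraMap B (KK N α v f) (f ^ m) * (algebraMap B (KK N α v f) b * gg N α v f ^ m) =
      algebraMap B (KK N α v f) b := by
    rw [map_pow, mul_left_comm, ← mul_pow, FF_mul_gg, one_pow, mul_one]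
  rw [h2, aeval_algebraMap_apply] at h1
  have h3 : eval b (scaleRoots q (f ^ m)) = 0 := by
    rw [← coe_aeval_eq_eval]
    exact algebraMap_B_injective N α v f hf hN (h1.trans (map_zero _).symm)
  let L := FractionRing B
  have hfm : algebraMap B L (f ^ m) ≠ 0 :=
    (map_ne_zero_iff _ (IsFractionRing.injective B L)).2 (pow_ne_zero _ hf)
  have h4 : IsIntegral B (algebraMap B L b / algebraMap B L (f ^ m)) := by
    refine ⟨q, hq, ?_⟩
    have h5 := scaleRoots_eval₂_mul (p := q) (algebraMap B L) (algebraMap B L b / algebraMap B L (f ^ m)) (f ^ m)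
    rw [mul_div_cancel₀ _ hfm, eval₂_at_apply, h3, map_zero] at h5
    exact (mul_eq_zero.1 h5.symm).resolve_left (pow_ne_zero _ hfm)
  obtain ⟨c, hc⟩ := IsIntegrallyClosed.algebraMap_eq_of_integral h4
  refine ⟨c, IsFractionRing.injective B L ?_⟩
  rw [map_mul, hc, mul_div_cancel₀ _ hfm]

omit hN in
lemma pow_dvd_of_pow_dvd_pow (hrad : ∀ x : B, ∀ n : ℕ, f ∣ x ^ n → f ∣ x) :
    ∀ (j e : ℕ) (b : B), N * j < e → f ^ e ∣ b ^ N → f ^ (j + 1) ∣ b
  | 0, e, b, hje, h => by
    rw [zero_add, pow_one]
    exact hrad b N ((dvd_pow_self f (by omega)).trans h)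
  | j + 1, e, b, hje, h => by
    have h1 : N * (j + 1) = N * j + N := by ring
    obtain ⟨c, rfl⟩ := hrad b N ((dvd_pow_self f (by omega)).trans h)
    rw [pow_succ' f (j + 1)]
    refine mul_dvd_mul_left f (pow_dvd_of_pow_dvd_pow hrad j (e - N) c (by omega) ?_)
    rw [mul_pow, ← Nat.add_sub_cancel' (show N ≤ e by omega), pow_add] at h
    exact (mul_dvd_mul_iff_left (pow_ne_zero N hf)).1 h

/-- elements integral over the base lie in the span -/
lemma mem_of_isIntegral [IsIntegrallyClosed B] (hrad : ∀ x : B, ∀ n : ℕ, f ∣ x ^ n → f ∣ x)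
    {z : B} (hz : z ^ N = 1) (hzN : ∀ m : ℕ, ¬ N ∣ m → ∑ j ∈ Finset.range N, (z ^ m) ^ j = 0)
    (hNu : IsUnit (N : B)) {x : KK N α v f} (hx : IsIntegral B x) : x ∈ MM N α v f := by
  classical
  have hpm := monic_pp N α v f hN
  obtain ⟨n, y, hy⟩ : ∃ (n : ℕ) (y : AdjoinRoot (pp N α v f)),
      x * algebraMap _ (KK N α v f) (algebraMap B _ f ^ n) = algebraMap _ (KK N α v f) y := by
    obtain ⟨⟨y, ⟨_, n, rfl⟩⟩, hy⟩ := IsLocalization.surj
      (Submonoid.powers (algebraMap B (AdjoinRoot (pp N α v f)) f)) x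
    exact ⟨n, y, hy⟩
  rw [map_pow, ← IsScalarTower.algebraMap_apply] at hy
  obtain ⟨b, hb⟩ : ∃ b : ℕ → B, algebraMap _ (KK N α v f) y =
      ∑ l ∈ Finset.range N, algebraMap B (KK N α v f) (b l) * TT N α v f ^ l := by
    obtain ⟨y', rfl⟩ := AdjoinRoot.mk_surjective y
    refine ⟨(y' %ₘ pp N α v f).coeff, ?_⟩
    have h1 : AdjoinRoot.mk (pp N α v f) y' = AdjoinRoot.mk (pp N α v f) (y' %ₘ pp N α v f) := by
      rw [AdjoinRoot.mk_eq_mk]
      exact ⟨y' /ₘ pp N α v f, by linear_combination -(Polynomial.modByMonic_add_div y' (pp N α v f))⟩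
    have hdeg : (y' %ₘ pp N α v f).natDegree < N := by
      have := natDegree_modByMonic_lt y' hpm (fun h => by
        have := congrArg natDegree h
        rw [natDegree_X_pow_sub_C, natDegree_one] at this
        omega)
      rwa [natDegree_X_pow_sub_C] at this
    rw [h1, ← AdjoinRoot.aeval_eq, aeval_eq_sum_range' hdeg, map_sum]
    refine Finset.sum_congr rfl fun l _ => ?_
    rw [Algebra.smul_def, map_mul, map_pow, ← IsScalarTower.algebraMap_apply]
  have hx' : x = gg N α v f ^ n *
      ∑ l ∈ Finset.range N, algebraMap B (KK N α v f) (b l) * TT N α v f ^ l := by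
    rw [← hb, ← hy, mul_comm, mul_assoc, ← mul_pow, FF_mul_gg, one_pow, mul_one]
  -- the twists
  let σS : ∀ j : ℕ, AdjoinRoot (pp N α v f) →ₐ[B] KK N α v f := fun j =>
    AdjoinRoot.liftAlgHom _ (Algebra.ofId B _) (algebraMap B _ (z ^ j) * TT N α v f) (by
      rw [eval₂_sub, eval₂_X_pow, eval₂_C, sub_eq_zero, mul_pow, ← map_pow, ← pow_mul, mul_comm j,
        pow_mul, hz, one_pow, map_one, one_mul, TT_pow]
      simp [Algebra.ofId_apply])
  have hu : ∀ j, IsUnit (σS j (algebraMap B _ f)) := fun j => by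
    rw [AlgHom.commutes]; exact IsUnit.of_mul_eq_one _ (FF_mul_gg N α v f)
  let σ : ∀ j : ℕ, KK N α v f →ₐ[B] KK N α v f := fun j =>
    { IsLocalization.Away.lift (S := KK N α v f) (algebraMap B (AdjoinRoot (pp N α v f)) f)
        (g := (σS j).toRingHom) (hu j) with
      commutes' := fun r => by
        show IsLocalization.Away.lift (S := KK N α v f) _ (g := (σS j).toRingHom) (hu j) _ = _
        rw [IsScalarTower.algebraMap_apply B (AdjoinRoot (pp N α v f)) (KK N α v f),
          IsLocalization.Away.lift_eq]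
        exact ((σS j).commutes r).trans (IsScalarTower.algebraMap_apply _ _ _ _) }
  have hσT : ∀ j, σ j (TT N α v f) = algebraMap B _ (z ^ j) * TT N α v f := fun j => by
    show IsLocalization.Away.lift (S := KK N α v f) _ (g := (σS j).toRingHom) (hu j) _ = _
    rw [IsLocalization.Away.lift_eq]
    show σS j (AdjoinRoot.root _) = _
    exact AdjoinRoot.liftAlgHom_root ..
  have hσg : ∀ j, σ j (gg N α v f) = gg N α v f := fun j => by
    have h1 : FF N α v f * σ j (gg N α v f) = 1 := by
      conv_lhs => rw [FF, ← (σ j).commutes f]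
      rw [← map_mul, FF_mul_gg, map_one]
    calc σ j (gg N α v f) = gg N α v f * (FF N α v f * σ j (gg N α v f)) := by
          rw [← mul_assoc, mul_comm (gg N α v f), FF_mul_gg, one_mul]
      _ = _ := by rw [h1, mul_one]
  have hsum : ∀ i < N, ∑ j ∈ Finset.range N, algebraMap B (KK N α v f) ((z ^ (N - i)) ^ j) * σ j x =
      algebraMap B (KK N α v f) ((N : B) * b i) * (gg N α v f ^ n * TT N α v f ^ i) := by
    intro i hi
    calc ∑ j ∈ Finset.range N, algebraMap B (KK N α v f) ((z ^ (N - i)) ^ j) * σ j x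
        = ∑ j ∈ Finset.range N, ∑ l ∈ Finset.range N,
            algebraMap B (KK N α v f) ((z ^ (N - i + l)) ^ j * b l) * (gg N α v f ^ n * TT N α v f ^ l) := by
          refine Finset.sum_congr rfl fun j _ => ?_
          rw [hx', map_mul (σ j), map_pow (σ j), hσg, map_sum (σ j), Finset.mul_sum, Finset.mul_sum]
          refine Finset.sum_congr rfl fun l _ => ?_
          rw [map_mul (σ j), map_pow (σ j), hσT, AlgHom.commutes]
          simp only [map_mul, map_pow, mul_pow, pow_add, ← pow_mul]
          ring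
      _ = ∑ l ∈ Finset.range N, algebraMap B (KK N α v f)
            ((∑ j ∈ Finset.range N, (z ^ (N - i + l)) ^ j) * b l) * (gg N α v f ^ n * TT N α v f ^ l) := by
          rw [Finset.sum_comm]
          refine Finset.sum_congr rfl fun l _ => ?_
          rw [Finset.sum_mul, map_sum, Finset.sum_mul]
      _ = _ := by
          rw [Finset.sum_eq_single i]
          · rw [Nat.sub_add_cancel hi.le, hz]
            simp
          · intro l hl hli
            rw [Finset.mem_range] at hl
            rw [hzN _ ?_, zero_mul, map_zero, zero_mul]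
            rintro ⟨c, hc⟩
            rcases c with _ | _ | c
            · omega
            · omega
            · have : 2 * N ≤ N * (c + 1 + 1) := by rw [mul_comm 2 N]; exact Nat.mul_le_mul_left N (by omega)
              omega
          · intro h; exact absurd (Finset.mem_range.2 hi) h
  rw [hx', Finset.mul_sum]
  refine Submodule.sum_mem _ fun i hi => ?_
  rw [Finset.mem_range] at hi
  have hint : IsIntegral B (algebraMap B (KK N α v f) (b i) * (gg N α v f ^ n * TT N α v f ^ i)) := by
    obtain ⟨w, hw⟩ := hNu.exists_left_inv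
    have : algebraMap B (KK N α v f) (b i) * (gg N α v f ^ n * TT N α v f ^ i) =
        algebraMap B _ w * ∑ j ∈ Finset.range N, algebraMap B (KK N α v f) ((z ^ (N - i)) ^ j) * σ j x := by
      rw [hsum i hi, ← mul_assoc (algebraMap B _ w), ← map_mul, ← mul_assoc w, hw, one_mul]
    rw [this]
    exact isIntegral_algebraMap.mul (IsIntegral.sum _ fun j _ =>
      isIntegral_algebraMap.mul (hx.map (σ j)))
  have heq : gg N α v f ^ n * (algebraMap B (KK N α v f) (b i) * TT N α v f ^ i) =
      algebraMap B (KK N α v f) (b i) * Mon N α v f i n 0 := by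
    simp only [Mon, pow_zero]; ring
  rw [heq, ← Algebra.smul_def]
  by_cases hn : n * N ≤ i * α
  · exact Submodule.smul_mem _ _ (Mon_mem N α v f hN (by omega))
  set k := i * α / N with hk
  have hkn : k < n := by
    rw [hk, Nat.div_lt_iff_lt_mul hN]; omega
  have hpow := hint.pow N
  have e3 : (algebraMap B (KK N α v f) (b i) * (gg N α v f ^ n * TT N α v f ^ i)) ^ N =
      algebraMap B (KK N α v f) (b i ^ N * (v : B) ^ i) * gg N α v f ^ (n * N - i * α) := by
    have h1 := FF_gg_cancel N α v f (x := i * α) (y := n * N) (x' := 0) (y' := n * N - i * α) (by omega)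
    rw [pow_zero, one_mul] at h1
    rw [← h1, map_mul, map_pow, map_pow, mul_pow, mul_pow, ← pow_mul, ← pow_mul (TT N α v f), mul_comm i N,
      pow_mul (TT N α v f), TT_pow, mul_pow, ← pow_mul (FF N α v f), mul_comm α i]
    ring
  rw [e3] at hpow
  have h5 : f ^ (n * N - i * α) ∣ b i ^ N := (IsUnit.dvd_mul_right (v.isUnit.pow i)).1
    (dvd_of_isIntegral N α v f hf hN _ _ hpow)
  have h6 : N * (n - k - 1) < n * N - i * α := by
    have h7 : i * α < (k + 1) * N := by
      rw [add_mul, one_mul]; exact Nat.lt_div_mul_add hN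
    have h8 : N * (n - k - 1) + (k + 1) * N = n * N := by
      rw [mul_comm (k + 1), ← mul_add, show n - k - 1 + (k + 1) = n by omega, mul_comm]
    omega
  obtain ⟨c, hc⟩ := pow_dvd_of_pow_dvd_pow N f hf hrad _ _ _ h6 h5
  rw [hc, Algebra.smul_def, map_mul, mul_assoc, mul_left_comm, ← Algebra.smul_def]
  refine Submodule.smul_mem _ _ ?_
  have : algebraMap B (KK N α v f) (f ^ (n - k - 1 + 1)) * Mon N α v f i n 0 =
      Mon N α v f i n (n - k) := by
    rw [show n - k - 1 + 1 = n - k by omega]
    simp only [Mon, map_pow, pow_zero]; ring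
  rw [this]
  refine Mon_mem N α v f hN ?_
  have : k * N ≤ i * α := Nat.div_mul_le_self _ _
  have : (n - k) * N + k * N = n * N := by rw [← add_mul, Nat.sub_add_cancel hkn.le]
  omega

omit hf in
lemma exists_pi : ∃ a b e : ℕ, a * α + e * N = Nat.gcd N α + b * N := by
  by_cases h : Nat.gcd α N < N
  · obtain ⟨m, -, hm⟩ := Nat.exists_mul_mod_eq_gcd h
    refine ⟨m, α * m / N, 0, ?_⟩
    rw [Nat.gcd_comm, ← hm, mul_comm m α, zero_mul, add_zero]
    exact (Nat.mod_add_div' (α * m) N).symm
  · refine ⟨0, 0, 1, ?_⟩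
    have := Nat.gcd_le_right (m := α) (n := N) hN
    rw [Nat.gcd_comm]
    omega

set_option maxHeartbeats 2000000 in
/-- all localisations of the span (as a subalgebra) are regular -/
theorem isRegularLocalRing_atPrime [IsNoetherianRing B]
    (hreg : ∀ (P : Ideal B) [P.IsPrime], IsRegularLocalRing (Localization.AtPrime P))
    (hD : ∀ (P : Ideal (B ⧸ Ideal.span ({f} : Set B))) [P.IsPrime], IsRegularLocalRing (Localization.AtPrime P))
    (hNu : IsUnit (N : B))
    (A : Subalgebra B (KK N α v f)) (hA : Subalgebra.toSubmodule A = MM N α v f)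
    (Q : Ideal A) [Q.IsPrime] : IsRegularLocalRing (Localization.AtPrime Q) := by
  classical
  have hmem : ∀ y, y ∈ A ↔ y ∈ MM N α v f := fun y => SetLike.ext_iff.1 hA y
  haveI : Module.Finite B A := (Module.Finite.iff_fg (N := Subalgebra.toSubmodule A)).2 (by
    rw [hA]; exact Submodule.fg_span (Set.finite_range _))
  haveI : IsNoetherianRing A := isNoetherian_of_tower B (inferInstance : IsNoetherian B A)
  haveI : Module.Free B (MM N α v f) :=
    Module.Free.of_basis (Module.Basis.span (linearIndependent_Egen N α v f hf hN))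
  haveI : Module.Free B A := Module.Free.of_equiv (LinearEquiv.ofEq _ _ hA.symm :
    MM N α v f ≃ₗ[B] Subalgebra.toSubmodule A)
  set P := Q.under B with hP
  let el : ∀ (a b e : ℕ), b * N ≤ a * α + e * N → A := fun a b e h =>
    ⟨Mon N α v f a b e, (hmem _).2 (Mon_mem N α v f hN h)⟩
  have hdvdA : ∀ {a₁ b₁ e₁ a₂ b₂ e₂ : ℕ} {h₁ : b₁ * N ≤ a₁ * α + e₁ * N} {h₂ : b₂ * N ≤ a₂ * α + e₂ * N},
      a₂ * α + e₂ * N + b₁ * N ≤ a₁ * α + e₁ * N + b₂ * N → el a₂ b₂ e₂ h₂ ∣ el a₁ b₁ e₁ h₁ := by
    intro a₁ b₁ e₁ a₂ b₂ e₂ h₁ h₂ h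
    obtain ⟨w, hw, heq⟩ := Mon_dvd N α v f hN h
    exact ⟨⟨w, (hmem _).2 hw⟩, Subtype.ext heq⟩
  have hLm : ∀ x : A, x ∈ Q → algebraMap A (Localization.AtPrime Q) x ∈
      IsLocalRing.maximalIdeal (Localization.AtPrime Q) := fun x hx =>
    (IsLocalization.AtPrime.to_map_mem_maximal_iff _ Q x).2 hx
  have hmax : ∀ J : Ideal A, (∀ x ∈ Q, ∃ s ∉ Q, s * x ∈ J) →
      IsLocalRing.maximalIdeal (Localization.AtPrime Q) ≤ J.map (algebraMap A _) := by
    intro J hJ z hz
    rw [← IsLocalization.AtPrime.map_eq_maximalIdeal Q (Localization.AtPrime Q)] at hz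
    revert hz z
    rw [← SetLike.le_def, Ideal.map_le_iff_le_comap]
    intro x hx
    obtain ⟨s, hs, hsx⟩ := hJ x hx
    rw [Ideal.mem_comap, ← Ideal.unit_mul_mem_iff_mem _ (IsLocalization.map_units (Localization.AtPrime Q) (⟨s, hs⟩ : Q.primeCompl)), ← map_mul]
    exact Ideal.mem_map_of_mem _ hsx
  let ρ : Localization.AtPrime P →+* Localization.AtPrime Q :=
    Localization.localRingHom P Q (algebraMap B A) rfl
  have hρ : ∀ b, ρ (algebraMap B _ b) = algebraMap A _ (algebraMap B A b) := fun b =>
    Localization.localRingHom_to_map P Q _ rfl b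
  have hρm : ∀ y ∈ IsLocalRing.maximalIdeal (Localization.AtPrime P),
      ρ y ∈ IsLocalRing.maximalIdeal (Localization.AtPrime Q) := fun y hy =>
    fun hu => hy (IsLocalHom.map_nonunit (f := ρ) y hu)
  haveI := hreg P
  have hcP : ∀ m : B, IsUnit m → m ∉ P := fun m hm h =>
    (Ideal.IsPrime.ne_top inferInstance) (Ideal.eq_top_of_isUnit_mem _ h hm)
  by_cases hfP : f ∈ P
  · -- ramified
    set d := Nat.gcd N α with hd
    have hd0 : 0 < d := Nat.gcd_pos_of_pos_left _ hN
    obtain ⟨N', hN'⟩ := Nat.gcd_dvd_left N α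
    obtain ⟨α', hα'⟩ := Nat.gcd_dvd_right N α
    rw [← hd] at hN' hα'
    obtain ⟨a, b, e, habe⟩ := exists_pi N α hN
    rw [← hd] at habe
    have hπv : b * N ≤ a * α + e * N := by omega
    let π : A := el a b e hπv
    have hvv : α' * N ≤ N' * α + 0 * N := by rw [hN', hα']; exact le_of_eq (by ring)
    let w : A := el N' α' 0 hvv
    let ψ : AdjoinRoot (X ^ d - C (v : B) : B[X]) →ₐ[B] A :=
      AdjoinRoot.liftAlgHom _ (Algebra.ofId B A) w (by
        rw [eval₂_sub, eval₂_X_pow, eval₂_C, sub_eq_zero]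
        refine Subtype.ext ?_
        show Mon N α v f N' α' 0 ^ d = algebraMap B (KK N α v f) v
        rw [Mon_pow, zero_mul, show N' * d = 0 + 1 * N by rw [hN']; ring, Mon_add_mul_N, pow_one, zero_add, one_mul,
          Mon_congr N α v f (a := 0) (b' := 0) (e' := 0) (by rw [hα']; ring), Mon_zero, mul_one])
    have hψ : ψ (AdjoinRoot.root _) = w := AdjoinRoot.liftAlgHom_root ..
    have hfπ : π ∣ algebraMap B A f := by
      have h1 : algebraMap B A f = el 0 0 1 (by omega) := Subtype.ext (by
        show algebraMap B (KK N α v f) f = Mon N α v f 0 0 1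
        simp [Mon])
      rw [h1]
      have : d ≤ N := Nat.gcd_le_left _ hN
      exact hdvdA (h₁ := by omega) (h₂ := hπv) (by omega)
    have hN'0 : 0 < N' := by
      rcases Nat.eq_zero_or_pos N' with h | h
      · rw [h, mul_zero] at hN'; omega
      · exact h
    have hπQ : π ∈ Q := by
      have h1 : algebraMap B A f ∣ π ^ N' := by
        have h2 : algebraMap B A f = el 0 0 1 (by omega) := Subtype.ext (by
          show algebraMap B (KK N α v f) f = Mon N α v f 0 0 1
          simp [Mon])
        have h3 : b * N' * N ≤ a * N' * α + e * N' * N := by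
          have := Nat.mul_le_mul_right N' hπv
          linarith [mul_comm N' N]
        have h4 : π ^ N' = el (a * N') (b * N') (e * N') h3 := Subtype.ext (Mon_pow N α v f a b e N')
        rw [h2, h4]
        refine hdvdA (h₁ := h3) (h₂ := by omega) ?_
        have h5 : a * N' * α + e * N' * N = N + b * N' * N := by
          have := congrArg (· * N') habe
          simp only [add_mul] at this
          linarith [hN']
        omega
      refine Ideal.IsPrime.mem_of_pow_mem inferInstance N' ?_
      obtain ⟨c, hc⟩ := h1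
      rw [hc]
      exact Ideal.mul_mem_right _ _ hfP
    -- every element is a polynomial in `w` modulo `π`
    have hdec : ∀ y ∈ MM N α v f, ∃ (s : AdjoinRoot (X ^ d - C (v : B) : B[X])) (c : A),
        y = ((ψ s + π * c : A) : KK N α v f) := by
      intro y hy
      induction hy using Submodule.span_induction with
      | mem y hy =>
        obtain ⟨i, rfl⟩ := hy
        set k := (i : ℕ) * α / N with hk
        have hki : k * N ≤ i * α := Nat.div_mul_le_self _ _
        rcases hki.eq_or_lt with heq | hlt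
        · obtain ⟨j, hj⟩ : N' ∣ (i : ℕ) := by
            have hco : Nat.Coprime N' α' := by
              have h1 := Nat.coprime_div_gcd_div_gcd (m := N) (n := α) hd0
              rw [← hd] at h1
              rwa [hN', hα', Nat.mul_div_cancel_left _ hd0, Nat.mul_div_cancel_left _ hd0] at h1
            refine hco.dvd_of_dvd_mul_right ⟨k, Nat.eq_of_mul_eq_mul_left hd0 ?_⟩
            have e3 : k * (d * N') = (i : ℕ) * (d * α') :=
              (congrArg (k * ·) hN'.symm).trans (heq.trans (congrArg ((i : ℕ) * ·) hα'))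
            linarith
          refine ⟨AdjoinRoot.root _ ^ j, 0, ?_⟩
          rw [mul_zero, add_zero, map_pow, hψ]
          have hkj : k = α' * j := by
            refine Nat.eq_of_mul_eq_mul_right hN ?_
            rw [heq, hj, hN', hα']; ring
          show Mon N α v f i k 0 = Mon N α v f N' α' 0 ^ j
          rw [Mon_pow, zero_mul, hj, hkj]
        · have h1 : (el i k 0 (by omega) : A) ∈ Ideal.span {π} := by
            rw [Ideal.mem_span_singleton]
            refine hdvdA (h₁ := by omega) (h₂ := hπv) ?_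
            obtain ⟨c, hc⟩ : d ∣ (i : ℕ) * α - k * N :=
              Nat.dvd_sub ((Nat.gcd_dvd_right N α).mul_left _) ((Nat.gcd_dvd_left N α).mul_left _)
            have hc0 : 1 ≤ c := by
              rcases Nat.eq_zero_or_pos c with h | h
              · rw [h, mul_zero] at hc; omega
              · exact h
            have : d ≤ d * c := Nat.le_mul_of_pos_right d hc0
            omega
          obtain ⟨c, hc⟩ := Ideal.mem_span_singleton.1 h1
          exact ⟨0, c, by rw [map_zero, zero_add, ← hc]⟩
      | zero => exact ⟨0, 0, by simp⟩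
      | add y y' _ _ h h' =>
        obtain ⟨s, c, rfl⟩ := h
        obtain ⟨s', c', rfl⟩ := h'
        exact ⟨s + s', c + c', by rw [← Subalgebra.coe_add]; congr 1; rw [map_add]; ring⟩
      | smul r y _ h =>
        obtain ⟨s, c, rfl⟩ := h
        exact ⟨r • s, r • c, by rw [← Subalgebra.coe_smul, map_smul, smul_add, mul_smul_comm]⟩
    have hJ : ∀ x ∈ Q, ∃ s ∉ Q, s * x ∈ P.map (algebraMap B A) ⊔ Ideal.span {π} := by
      intro x hx
      obtain ⟨y, c, hyc⟩ := hdec x ((hmem _).1 x.2)
      have hx' : x = ψ y + π * c := Subtype.ext hyc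
      have hy : y ∈ Q.comap ψ.toRingHom := by
        rw [Ideal.mem_comap]
        have : ψ y = x - π * c := by rw [hx']; ring
        show ψ y ∈ Q
        rw [this]; exact Q.sub_mem hx (Q.mul_mem_right _ hπQ)
      obtain ⟨s, hs, hsy⟩ := exists_mul_mem_map hd0 (v : B) _ rfl (Q.comap ψ.toRingHom) P
        (by rw [Ideal.comap_comap]; exact congrArg (fun φ => Q.comap φ) ψ.comp_algebraMap) (hcP _ (by
          rw [hN', Nat.cast_mul] at hNu; exact isUnit_of_mul_isUnit_left hNu)) (hcP _ v.isUnit) hy
      refine ⟨ψ s, hs, ?_⟩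
      rw [hx', mul_add, ← map_mul]
      refine Submodule.add_mem_sup ?_ ?_
      · have h := Ideal.mem_map_of_mem ψ.toRingHom hsy
        rwa [Ideal.map_map, show ψ.toRingHom.comp (algebraMap B _) = algebraMap B A from ψ.comp_algebraMap] at h
      · rw [mul_left_comm]; exact Ideal.mem_span_singleton.2 (dvd_mul_right _ _)
    haveI := isRegularLocalRing_quotient_atPrime f P hfP hD
    obtain ⟨t, ht, hcard⟩ := exists_generators_cons (R := Localization.AtPrime P)
      (f := algebraMap B _ f)
      ((map_ne_zero_iff _ (IsLocalization.injective _ P.primeCompl_le_nonZeroDivisors)).2 hf)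
      ((IsLocalization.AtPrime.to_map_mem_maximal_iff _ P f).2 hfP)
    refine isRegularLocalRing_of_generators P Q (insert (algebraMap A _ π) (t.image ρ)) ?_ ?_ ?_
    · refine (hmax _ hJ).trans ?_
      rw [Ideal.map_sup, Ideal.map_span, Set.image_singleton, Finset.coe_insert, Finset.coe_image]
      refine sup_le ?_ ((Ideal.span_singleton_le_iff_mem _).2 (Ideal.subset_span (Set.mem_insert _ _)))
      rw [Ideal.map_map, Ideal.map_le_iff_le_comap]
      intro p hp
      have h1 : algebraMap B (Localization.AtPrime P) p ∈ Ideal.span (insert (algebraMap B _ f) (t : Set (Localization.AtPrime P))) := by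
        rw [← ht]; exact (IsLocalization.AtPrime.to_map_mem_maximal_iff _ P p).2 hp
      have h2 := Ideal.mem_map_of_mem ρ h1
      rw [hρ, Ideal.map_span, Set.image_insert_eq, hρ] at h2
      rw [Ideal.mem_comap, RingHom.comp_apply]
      refine (Ideal.span_le.2 ?_) h2
      rintro z (rfl | hz)
      · obtain ⟨c, hc⟩ := hfπ
        rw [hc, map_mul]
        exact Ideal.mul_mem_right _ _ (Ideal.subset_span (Set.mem_insert _ _))
      · exact Ideal.subset_span (Set.mem_insert_of_mem _ hz)
    · intro g hg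
      rw [Finset.mem_insert, Finset.mem_image] at hg
      rcases hg with rfl | ⟨y, hy, rfl⟩
      · exact hLm π hπQ
      · exact hρm y (ht ▸ Ideal.subset_span (Set.mem_insert_of_mem _ hy))
    · refine le_trans ?_ hcard
      exact_mod_cast (Finset.card_insert_le _ _).trans (Nat.add_le_add_right Finset.card_image_le 1)
  · -- unramified
    let ψ : AdjoinRoot (pp N α v f) →ₐ[B] A :=
      AlgHom.codRestrict (IsScalarTower.toAlgHom B (AdjoinRoot (pp N α v f)) (KK N α v f)) A (fun y => by
        rw [hmem]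
        obtain ⟨y, rfl⟩ := AdjoinRoot.mk_surjective y
        rw [IsScalarTower.coe_toAlgHom', ← AdjoinRoot.aeval_eq, aeval_eq_sum_range, map_sum]
        refine Submodule.sum_mem _ fun l _ => ?_
        rw [Algebra.smul_def, map_mul, ← IsScalarTower.algebraMap_apply, map_pow, ← Algebra.smul_def]
        refine Submodule.smul_mem _ _ ?_
        have : algebraMap (AdjoinRoot (pp N α v f)) (KK N α v f) (AdjoinRoot.root (pp N α v f)) ^ l =
            Mon N α v f l 0 0 := by simp [Mon]
        rw [this]
        exact Mon_mem N α v f hN (by omega))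
    have hJ : ∀ x ∈ Q, ∃ s ∉ Q, s * x ∈ P.map (algebraMap B A) := by
      intro x hx
      obtain ⟨⟨y, ⟨_, n, rfl⟩⟩, hy⟩ := IsLocalization.surj
        (Submonoid.powers (algebraMap B (AdjoinRoot (pp N α v f)) f)) (x : KK N α v f)
      have hy' : x * algebraMap B A (f ^ n) = ψ y := Subtype.ext (by
        show (x : KK N α v f) * algebraMap B (KK N α v f) (f ^ n) = _
        rw [IsScalarTower.algebraMap_apply B (AdjoinRoot (pp N α v f)) (KK N α v f), map_pow]
        exact hy)
      obtain ⟨s, hs, hsy⟩ := exists_mul_mem_map hN ((v : B) * f ^ α) _ rfl (Q.comap ψ.toRingHom) P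
        (by rw [Ideal.comap_comap]; exact congrArg (fun φ => Q.comap φ) ψ.comp_algebraMap) (hcP _ hNu)
        (fun h => (Ideal.IsPrime.mem_or_mem inferInstance h).elim (hcP _ v.isUnit)
          (fun h => hfP (Ideal.IsPrime.mem_of_pow_mem inferInstance α h)))
        (x := y) (by show ψ y ∈ Q; rw [← hy']; exact Q.mul_mem_right _ hx)
      refine ⟨ψ s * algebraMap B A (f ^ n), fun h => ?_, ?_⟩
      · exact (Ideal.IsPrime.mem_or_mem inferInstance h).elim hs
          (fun h => hfP (Ideal.IsPrime.mem_of_pow_mem inferInstance n h))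
      · rw [mul_assoc, mul_comm (algebraMap B A (f ^ n)), hy', ← map_mul]
        have h := Ideal.mem_map_of_mem ψ.toRingHom hsy
        rwa [Ideal.map_map, show ψ.toRingHom.comp (algebraMap B _) = algebraMap B A from ψ.comp_algebraMap] at h
    obtain ⟨t, htc, ht⟩ := Submodule.FG.exists_span_finset_card_eq_spanFinrank
      (IsNoetherian.noetherian (IsLocalRing.maximalIdeal (Localization.AtPrime P)))
    rw [Ideal.submodule_span_eq] at ht
    refine isRegularLocalRing_of_generators P Q (t.image ρ) ?_ ?_ ?_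
    · refine (hmax _ hJ).trans ?_
      rw [Ideal.map_map, Ideal.map_le_iff_le_comap, Finset.coe_image]
      intro p hp
      have h1 : algebraMap B (Localization.AtPrime P) p ∈ Ideal.span (t : Set (Localization.AtPrime P)) := by
        rw [ht]; exact (IsLocalization.AtPrime.to_map_mem_maximal_iff _ P p).2 hp
      have h2 := Ideal.mem_map_of_mem ρ h1
      rwa [hρ, Ideal.map_span] at h2
    · intro g hg
      rw [Finset.mem_image] at hg
      obtain ⟨y, hy, rfl⟩ := hg
      exact hρm y (ht ▸ Ideal.subset_span hy)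
    · rw [← IsRegularLocalRing.spanFinrank_maximalIdeal (R := Localization.AtPrime P)]
      exact_mod_cast Finset.card_image_le.trans htc.le

/-- the main theorem -/
theorem main (k : Type u) [Field k] [IsAlgClosed k] [Algebra k B] [IsNoetherianRing B]
    (hreg : ∀ (P : Ideal B) [P.IsPrime], IsRegularLocalRing (Localization.AtPrime P))
    (hNk : IsUnit ((N : ℕ) : k))
    (hD : ∀ (P : Ideal (B ⧸ Ideal.span ({f} : Set B))) [P.IsPrime], IsRegularLocalRing (Localization.AtPrime P))
    (A : Subalgebra B (KK N α v f))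
    (hA : A = Algebra.adjoin B (Set.range (Egen N α v f))) :
    Module.Finite B A ∧ IsIntegralClosure A (AdjoinRoot (pp N α v f)) (KK N α v f) ∧
      ∀ (Q : Ideal A) [Q.IsPrime], IsRegularLocalRing (Localization.AtPrime Q) := by
  have hA' : Subalgebra.toSubmodule A = MM N α v f := by rw [hA, adjoin_eq N α v f hN]
  have hNu : IsUnit (N : B) := by simpa using hNk.map (algebraMap k B)
  refine ⟨(Module.Finite.iff_fg (N := Subalgebra.toSubmodule A)).2 (by rw [hA']; exact Submodule.fg_span (Set.finite_range _)), ?_,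
    fun Q _ => isRegularLocalRing_atPrime N α v f hf hN hreg hD hNu A hA' Q⟩
  haveI : IsIntegrallyClosed B := IsIntegrallyClosed.of_localization_maximal fun m _ _ => by
    haveI := hreg m
    exact NormalLib.isIntegrallyClosed_of_isRegularLocalRing _
  haveI : IsReduced (B ⧸ Ideal.span ({f} : Set B)) := isReduced_ofLocalizationMaximal _ fun J _ => by
    haveI := hD J
    haveI := CommAlgDim.isDomain_of_isRegularLocalRing (Localization.AtPrime J)
    infer_instance
  have hrad : ∀ x : B, ∀ n : ℕ, f ∣ x ^ n → f ∣ x := fun x n h => by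
    rw [← Ideal.mem_span_singleton, ← Ideal.Quotient.eq_zero_iff_mem] at h ⊢
    rw [map_pow] at h
    exact IsNilpotent.eq_zero ⟨n, h⟩
  haveI : NeZero ((N : ℕ) : k) := ⟨hNk.ne_zero⟩
  obtain ⟨ζ, hζ⟩ := HasEnoughRootsOfUnity.exists_primitiveRoot k N
  haveI : Module.Finite B (AdjoinRoot (pp N α v f)) := (monic_pp N α v f hN).finite_adjoinRoot
  refine ⟨Subtype.coe_injective, fun {x} => ⟨fun hx => ?_, ?_⟩⟩
  · refine ⟨⟨x, (SetLike.ext_iff.1 hA' x).2 (mem_of_isIntegral N α v f hf hN hrad
      (z := algebraMap k B ζ) ?_ ?_ hNu (isIntegral_trans (R := B) x hx))⟩, rfl⟩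
    · rw [← map_pow, hζ.pow_eq_one, map_one]
    · intro m hm
      rw [← map_pow]
      simp_rw [← map_pow (algebraMap k B) (ζ ^ m)]
      rw [← map_sum]
      have h1 : ζ ^ m - 1 ≠ 0 := sub_ne_zero.2 fun h => hm ((hζ.pow_eq_one_iff_dvd m).1 h)
      have h2 := geom_sum_mul (ζ ^ m) N
      rw [← pow_mul, mul_comm m N, pow_mul, hζ.pow_eq_one, one_pow, sub_self] at h2
      rw [(mul_eq_zero.1 h2).resolve_right h1, map_zero]
  · rintro ⟨y, rfl⟩
    have h1 : (y : KK N α v f) ∈ MM N α v f := (SetLike.ext_iff.1 hA' (y : KK N α v f)).1 y.2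
    refine IsIntegral.tower_top (R := B) ?_
    have h2 : MM N α v f ≤ Subalgebra.toSubmodule (integralClosure B (KK N α v f)) :=
      Submodule.span_le.2 (by
        rintro _ ⟨i, rfl⟩
        exact isIntegral_Mon N α v f hf hN (by
          have := Nat.div_mul_le_self ((i : ℕ) * α) N
          omega))
    exact h2 h1

end Domain

end RichLib.CycCover
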