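import Groth.Agent.CommAlgDim.Regular
import Mathlib.RingTheory.AdjoinRoot
import Mathlib.RingTheory.Ideal.KrullsHeightTheorem
import Mathlib.RingTheory.Ideal.GoingDown
import Mathlib.RingTheory.RegularLocalRing.Defs
import Mathlib.FieldTheory.Separable

/-!
# Local lemmas for cyclic covers
-/

set_option autoImplicit false
universe u

open Polynomial IsLocalRing

namespace RichLib.CycCover

/-- `X^d - c` is unramified over a prime not containing `d * c`. -/
theorem exists_mul_mem_map {R : Type u} [CommRing R] {d : ℕ} (hd0 : 0 < d) (c : R)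
    (p : R[X]) (hp : p = X ^ d - C c)
    (q : Ideal (AdjoinRoot p)) [q.IsPrime] (P : Ideal R) [P.IsPrime]
    (hP : q.comap (algebraMap R (AdjoinRoot p)) = P) (hd : (d : R) ∉ P) (hc : c ∉ P)
    {x : AdjoinRoot p} (hx : x ∈ q) :
    ∃ s ∉ q, s * x ∈ P.map (algebraMap R (AdjoinRoot p)) := by
  have hmon : p.Monic := hp ▸ monic_X_pow_sub_C _ hd0.ne'
  let κ := FractionRing (R ⧸ P)
  let ι : R →+* κ := (algebraMap (R ⧸ P) κ).comp (Ideal.Quotient.mk P)
  let Ω := FractionRing (AdjoinRoot p ⧸ q)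
  let φ : AdjoinRoot p →+* Ω := (algebraMap (AdjoinRoot p ⧸ q) Ω).comp (Ideal.Quotient.mk q)
  have hφ : ∀ y, φ y = 0 ↔ y ∈ q := fun y => by
    simp [φ, IsFractionRing.to_map_eq_zero_iff, Ideal.Quotient.eq_zero_iff_mem]
  have hι : ∀ r, ι r = 0 ↔ r ∈ P := fun r => by
    simp [ι, IsFractionRing.to_map_eq_zero_iff, Ideal.Quotient.eq_zero_iff_mem]
  let ψ₀ : R ⧸ P →+* Ω := Ideal.Quotient.lift P (φ.comp (algebraMap R (AdjoinRoot p)))
    (fun r hr => (hφ _).2 (by rw [← hP] at hr; exact hr))
  have hψ₀ : Function.Injective ψ₀ := by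
    rw [injective_iff_map_eq_zero]
    intro r hr
    obtain ⟨r, rfl⟩ := Ideal.Quotient.mk_surjective r
    rw [Ideal.Quotient.eq_zero_iff_mem, ← hP]
    exact (hφ _).1 hr
  let θ : κ →+* Ω := IsLocalization.lift (M := nonZeroDivisors (R ⧸ P)) (g := ψ₀) (fun y =>
    isUnit_iff_ne_zero.2 ((map_ne_zero_iff ψ₀ hψ₀).2 (nonZeroDivisors.ne_zero y.2)))
  have hθ : θ.comp ι = φ.comp (algebraMap R (AdjoinRoot p)) := by
    ext r
    simp [θ, ι, IsLocalization.lift_eq, ψ₀]
  letI := θ.toAlgebra
  let z : Ω := φ (AdjoinRoot.root p)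
  have hev : ∀ g : R[X], φ (AdjoinRoot.mk p g) = aeval z (g.map ι) := fun g => by
    rw [aeval_def, eval₂_map, show (algebraMap κ Ω).comp ι = φ.comp (algebraMap R (AdjoinRoot p)) from hθ,
      ← hom_eval₂, ← aeval_def, AdjoinRoot.aeval_eq]
  set g₀ : κ[X] := p.map ι with hg₀
  have hg₀z : aeval z g₀ = 0 := by rw [← hev, AdjoinRoot.mk_self, map_zero]
  have hg₀mon : g₀.Monic := hmon.map ι
  have hint : IsIntegral κ z := ⟨g₀, hg₀mon, hg₀z⟩
  obtain ⟨e, he⟩ := minpoly.dvd κ z hg₀z
  have hsep : Squarefree g₀ := by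
    have : g₀ = X ^ d - C (ι c) := by simp [hg₀, hp]
    rw [this]
    refine (Polynomial.separable_X_pow_sub_C (F := κ) (ι c) ?_ ?_).squarefree
    · rw [Ne, ← map_natCast ι, hι]; exact hd
    · rw [Ne, hι]; exact hc
  have hez : aeval z e ≠ 0 := by
    intro h
    obtain ⟨e', rfl⟩ := minpoly.dvd κ z h
    exact minpoly.not_isUnit κ z (hsep _ ⟨e', by rw [he, mul_assoc]⟩)
  obtain ⟨⟨b, hb⟩, hbe⟩ := IsLocalization.integerNormalization_map_to_map (nonZeroDivisors (R ⧸ P)) e
  obtain ⟨e', he'⟩ := Polynomial.map_surjective (Ideal.Quotient.mk P) Ideal.Quotient.mk_surjective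
    (IsLocalization.integerNormalization (nonZeroDivisors (R ⧸ P)) e)
  have he'' : e'.map ι = C (algebraMap (R ⧸ P) κ b) * e := by
    rw [← Polynomial.map_map, he', hbe, Algebra.smul_def]
    rfl
  have hb0 : algebraMap (R ⧸ P) κ b ≠ 0 :=
    fun h => nonZeroDivisors.ne_zero hb ((IsFractionRing.to_map_eq_zero_iff (K := κ)).1 h)
  refine ⟨AdjoinRoot.mk p e', fun h => ?_, ?_⟩
  · rw [← hφ, hev, he'', map_mul, aeval_C, mul_eq_zero] at h
    exact h.elim (fun h => hb0 ((map_eq_zero θ).1 h)) hez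
  obtain ⟨x', rfl⟩ := AdjoinRoot.mk_surjective x
  have hdvd : g₀ ∣ (e' * x').map ι := by
    have hm : minpoly κ z ∣ x'.map ι := minpoly.dvd κ z (by rw [← hev, hφ]; exact hx)
    rw [Polynomial.map_mul, he'', he, mul_comm (minpoly κ z) e, mul_assoc]
    exact (mul_dvd_mul_left e hm).mul_left _
  have hr : ((e' * x') %ₘ p).map ι = 0 := by
    rw [Polynomial.map_modByMonic ι hmon]
    exact (Polynomial.modByMonic_eq_zero_iff_dvd hg₀mon).2 hdvd
  have hmk : AdjoinRoot.mk p (e' * x') = AdjoinRoot.mk p ((e' * x') %ₘ p) := by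
    rw [AdjoinRoot.mk_eq_mk]
    exact ⟨(e' * x') /ₘ p, by linear_combination -(Polynomial.modByMonic_add_div (e' * x') p)⟩
  rw [← map_mul, hmk, ← AdjoinRoot.aeval_eq, aeval_eq_sum_range]
  refine Ideal.sum_mem _ fun i _ => ?_
  rw [Algebra.smul_def]
  refine Ideal.mul_mem_right _ _ (Ideal.mem_map_of_mem _ ?_)
  rw [← hι, ← Polynomial.coeff_map, hr, Polynomial.coeff_zero]

/-- regularity upstairs from a small set of generators, along a flat map -/
theorem isRegularLocalRing_of_generators {B A : Type u} [CommRing B] [CommRing A] [Algebra B A]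
    [IsNoetherianRing B] [IsNoetherianRing A] [Module.Flat B A] (P : Ideal B) [P.IsPrime] (Q : Ideal A) [Q.IsPrime]
    [Q.LiesOver P] (G : Finset (Localization.AtPrime Q))
    (hG : maximalIdeal (Localization.AtPrime Q) ≤ Ideal.span (G : Set (Localization.AtPrime Q)))
    (hGm : ∀ g ∈ G, g ∈ maximalIdeal (Localization.AtPrime Q))
    (hcard : (G.card : WithBot ℕ∞) ≤ ringKrullDim (Localization.AtPrime P)) :
    IsRegularLocalRing (Localization.AtPrime Q) := by
  refine IsRegularLocalRing.of_spanFinrank_maximalIdeal_le _ ?_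
  have heq : maximalIdeal (Localization.AtPrime Q) = Ideal.span (G : Set (Localization.AtPrime Q)) :=
    le_antisymm hG (Ideal.span_le.2 hGm)
  have h1 : (maximalIdeal (Localization.AtPrime Q)).spanFinrank ≤ G.card := by
    rw [heq]
    exact (Submodule.spanFinrank_span_le_ncard_of_finite G.finite_toSet).trans (Set.ncard_coe_finset G).le
  have h2 : P.height ≤ Q.height := by
    rw [Ideal.height_eq_height_add_of_liesOver_of_hasGoingDown P Q]
    exact le_self_add
  refine le_trans (Nat.cast_le.2 h1) (hcard.trans ?_)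
  rw [IsLocalization.AtPrime.ringKrullDim_eq_height P (Localization.AtPrime P),
    IsLocalization.AtPrime.ringKrullDim_eq_height Q (Localization.AtPrime Q)]
  exact WithBot.coe_le_coe.2 h2

/-- generators of the maximal ideal through a regular divisor -/
theorem exists_generators_cons {R : Type u} [CommRing R] [IsRegularLocalRing R] {f : R} (hf : f ≠ 0)
    (hfm : f ∈ maximalIdeal R) [IsRegularLocalRing (R ⧸ Ideal.span {f})] :
    ∃ t : Finset R, maximalIdeal R = Ideal.span (insert f (t : Set R)) ∧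
      ((t.card + 1 : ℕ) : WithBot ℕ∞) ≤ ringKrullDim R := by
  classical
  obtain ⟨t', ht', htK⟩ := Submodule.FG.exists_span_finset_card_eq_spanFinrank
    (IsNoetherian.noetherian (maximalIdeal (R ⧸ Ideal.span {f})))
  rw [Ideal.submodule_span_eq] at htK
  choose l hl using fun y : R ⧸ Ideal.span {f} => Ideal.Quotient.mk_surjective (I := Ideal.span {f}) y
  refine ⟨t'.image l, le_antisymm (fun z hz => ?_) (Ideal.span_le.2 ?_), ?_⟩
  · have h := Ideal.mem_map_of_mem (Ideal.Quotient.mk (Ideal.span {f})) hz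
    rw [map_maximalIdeal_of_surjective _ Ideal.Quotient.mk_surjective, ← htK,
      show (t' : Set (R ⧸ Ideal.span {f})) = Ideal.Quotient.mk (Ideal.span {f}) '' ((t'.image l : Finset R) : Set R) by
        rw [Finset.coe_image, ← Set.image_comp]
        exact (Set.image_congr fun y _ => hl y).trans (Set.image_id _) |>.symm,
      ← Ideal.map_span, Ideal.mem_quotient_iff_mem_sup] at h
    rw [Ideal.span_insert, sup_comm]
    exact h
  · rw [Set.insert_subset_iff]
    refine ⟨hfm, ?_⟩
    rw [Finset.coe_image]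
    rintro _ ⟨y, hy, rfl⟩
    have : y ∈ maximalIdeal (R ⧸ Ideal.span {f}) := htK ▸ Ideal.subset_span hy
    rw [← map_maximalIdeal_of_surjective _ (Ideal.Quotient.mk_surjective (I := Ideal.span {f})), ← hl y,
      Ideal.mem_quotient_iff_mem_sup] at this
    exact (sup_le le_rfl ((Ideal.span_singleton_le_iff_mem _).2 hfm)) this
  · haveI : IsDomain R := CommAlgDim.isDomain_of_isRegularLocalRing R
    refine le_trans ?_ (ringKrullDim_quotient_succ_le_of_nonZeroDivisor
      (mem_nonZeroDivisors_of_ne_zero hf))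
    rw [← IsRegularLocalRing.spanFinrank_maximalIdeal (R := R ⧸ Ideal.span {f})]
    have h1 : (t'.image l).card + 1 ≤ (maximalIdeal (R ⧸ Ideal.span {f})).spanFinrank + 1 :=
      Nat.add_le_add_right (Finset.card_image_le.trans ht'.le) 1
    exact_mod_cast h1

/-- localisation of a quotient as a quotient of the localisation -/
theorem isRegularLocalRing_quotient_atPrime {B : Type u} [CommRing B] (f : B) (P : Ideal B) [P.IsPrime]
    (hfP : f ∈ P)
    (hD : ∀ (Q : Ideal (B ⧸ Ideal.span ({f} : Set B))) [Q.IsPrime], IsRegularLocalRing (Localization.AtPrime Q)) :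
    IsRegularLocalRing (Localization.AtPrime P ⧸
      Ideal.span {algebraMap B (Localization.AtPrime P) f}) := by
  set I := Ideal.span ({f} : Set B) with hI
  set L := Localization.AtPrime P
  rw [show (Ideal.span {algebraMap B L f} : Ideal L) = I.map (algebraMap B L) by
    rw [hI, Ideal.map_span, Set.image_singleton]]
  have hIP : I ≤ P := (Ideal.span_singleton_le_iff_mem _).2 hfP
  let Pb := P.map (Ideal.Quotient.mk I)
  haveI : Pb.IsPrime := Ideal.map_isPrime_of_surjective Ideal.Quotient.mk_surjective (by rwa [Ideal.mk_ker])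
  have hcomap : Pb.comap (Ideal.Quotient.mk I) = P := by
    rw [Ideal.comap_map_of_surjective' _ Ideal.Quotient.mk_surjective, Ideal.mk_ker, sup_eq_left]
    exact hIP
  let φ : B →+* Localization.AtPrime Pb := (algebraMap (B ⧸ I) _).comp (Ideal.Quotient.mk I)
  have hun : ∀ s : P.primeCompl, IsUnit (φ s) := fun s =>
    IsLocalization.map_units (Localization.AtPrime Pb)
      (⟨Ideal.Quotient.mk I (s : B), fun h => s.2 (hcomap.le (Ideal.mem_comap.2 h))⟩ : Pb.primeCompl)
  let Φ : L →+* Localization.AtPrime Pb := IsLocalization.lift (M := P.primeCompl) (S := L) hun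
  have hsurj : Function.Surjective Φ := by
    intro y
    obtain ⟨b, ⟨s, hs⟩, rfl⟩ := IsLocalization.exists_mk'_eq Pb.primeCompl y
    obtain ⟨b, rfl⟩ := Ideal.Quotient.mk_surjective b
    obtain ⟨s, rfl⟩ := Ideal.Quotient.mk_surjective s
    refine ⟨IsLocalization.mk' L b (⟨s, fun h => hs (Ideal.mem_map_of_mem _ h)⟩ : P.primeCompl), ?_⟩
    show IsLocalization.lift (M := P.primeCompl) (S := L) hun _ = _
    rw [IsLocalization.lift_mk'_spec, mul_comm]
    exact (IsLocalization.mk'_spec (Localization.AtPrime Pb) _ (⟨Ideal.Quotient.mk I s, hs⟩ : Pb.primeCompl)).symm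
  have hker : RingHom.ker Φ = I.map (algebraMap B L) := by
    refine le_antisymm (fun z hz => ?_) (Ideal.map_le_iff_le_comap.2 fun b hb => ?_)
    · obtain ⟨b, s, rfl⟩ := IsLocalization.exists_mk'_eq P.primeCompl z
      rw [RingHom.mem_ker, IsLocalization.lift_mk'_spec, mul_zero] at hz
      obtain ⟨⟨m, hm⟩, hmb⟩ := (IsLocalization.map_eq_zero_iff Pb.primeCompl _ _).1 hz
      obtain ⟨m, rfl⟩ := Ideal.Quotient.mk_surjective m
      rw [← map_mul, Ideal.Quotient.eq_zero_iff_mem] at hmb
      have hmP : m ∉ P := fun h => hm (Ideal.mem_map_of_mem _ h)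
      rw [IsLocalization.mk'_eq_mul_mk'_one]
      refine Ideal.mul_mem_right _ _ ?_
      have hu : IsUnit (algebraMap B L m) := IsLocalization.map_units L (⟨m, hmP⟩ : P.primeCompl)
      rw [← Ideal.unit_mul_mem_iff_mem _ hu, ← map_mul]
      exact Ideal.mem_map_of_mem _ hmb
    · rw [Ideal.mem_comap, RingHom.mem_ker, IsLocalization.lift_eq]
      simp [φ, Ideal.Quotient.eq_zero_iff_mem.2 hb]
  haveI := hD Pb
  exact IsRegularLocalRing.of_ringEquiv
    ((Ideal.quotEquivOfEq hker.symm).trans (RingHom.quotientKerEquivOfSurjective hsurj)).symm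

end RichLib.CycCover
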