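import Groth.Agent.RichLib.CycCover.Local
import Mathlib.RingTheory.RegularLocalRing.Defs

/-!
# A root of an element with regular zero locus in a regular ring
-/

set_option autoImplicit false
universe u

open Polynomial IsLocalRing

namespace RichLib.CycCover

theorem isRegularRing_adjoinRoot {A : Type u} [CommRing A] [IsRegularRing A] [IsDomain A] (s : A) (hs : s ≠ 0)
    (hreg : IsRegularRing (A ⧸ Ideal.span {s})) (e : ℕ) (he : 0 < e) (heu : IsUnit (e : A))
    (p : A[X]) (hp : p = X ^ e - C s) : IsRegularRing (AdjoinRoot p) := by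
  classical
  have hmon : p.Monic := hp ▸ monic_X_pow_sub_C _ he.ne'
  haveI : Module.Free A (AdjoinRoot p) := hmon.free_adjoinRoot
  haveI : Module.Finite A (AdjoinRoot p) := hmon.finite_adjoinRoot
  haveI : IsNoetherianRing (AdjoinRoot p) := isNoetherian_of_tower A (inferInstance : IsNoetherian A (AdjoinRoot p))
  rw [isRegularRing_iff]
  intro Q _
  set P := Q.under A with hP
  let ρ : Localization.AtPrime P →+* Localization.AtPrime Q :=
    Localization.localRingHom P Q (algebraMap A _) rfl
  have hρ : ∀ a, ρ (algebraMap A _ a) = algebraMap _ _ (algebraMap A (AdjoinRoot p) a) := fun a =>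
    Localization.localRingHom_to_map P Q _ rfl a
  have hρm : ∀ y ∈ maximalIdeal (Localization.AtPrime P), ρ y ∈ maximalIdeal (Localization.AtPrime Q) :=
    fun y hy hu => hy (IsLocalHom.map_nonunit (f := ρ) y hu)
  have heP : (e : A) ∉ P := fun h => (Ideal.IsPrime.ne_top inferInstance) (Ideal.eq_top_of_isUnit_mem _ h heu)
  have hmax : maximalIdeal (Localization.AtPrime Q) = Q.map (algebraMap _ _) :=
    (IsLocalization.AtPrime.map_eq_maximalIdeal Q _).symm
  by_cases hsP : s ∈ P
  · let y := AdjoinRoot.root p
    have hy : y ^ e = algebraMap A _ s := by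
      have h := AdjoinRoot.eval₂_root p
      rw [hp, eval₂_sub, eval₂_X_pow, eval₂_C, sub_eq_zero] at h
      rw [AdjoinRoot.algebraMap_eq]
      subst hp
      exact h
    have hyQ : y ∈ Q := Ideal.IsPrime.mem_of_pow_mem inferInstance e (hy ▸ hsP)
    haveI := isRegularLocalRing_quotient_atPrime s P hsP (fun Q' _ => inferInstance)
    haveI : IsRegularLocalRing (Localization.AtPrime P) := IsRegularRing.isRegularLocalRing_localization P
    obtain ⟨t, ht, hcard⟩ := exists_generators_cons (R := Localization.AtPrime P) (f := algebraMap A _ s)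
      ((map_ne_zero_iff _ (IsLocalization.injective _ P.primeCompl_le_nonZeroDivisors)).2 hs)
      ((IsLocalization.AtPrime.to_map_mem_maximal_iff _ P s).2 hsP)
    refine isRegularLocalRing_of_generators P Q (insert (algebraMap _ _ y) (t.image ρ)) ?_ ?_ ?_
    · rw [hmax, Ideal.map_le_iff_le_comap]
      intro x hx
      obtain ⟨g, rfl⟩ := AdjoinRoot.mk_surjective x
      have hg : AdjoinRoot.mk p g = AdjoinRoot.mk p g.divX * y + algebraMap A _ (g.coeff 0) := by
        conv_lhs => rw [← divX_mul_X_add g, map_add, map_mul, AdjoinRoot.mk_X, AdjoinRoot.mk_C]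
        rw [AdjoinRoot.algebraMap_eq]
      have ha : g.coeff 0 ∈ P := by
        show algebraMap A _ _ ∈ Q
        have : algebraMap A (AdjoinRoot p) (g.coeff 0) = AdjoinRoot.mk p g - AdjoinRoot.mk p g.divX * y := by
          rw [hg]; ring
        rw [this]
        exact Q.sub_mem hx (Q.mul_mem_left _ hyQ)
      rw [Ideal.mem_comap, hg, map_add, map_mul, ← hρ, Finset.coe_insert, Finset.coe_image]
      refine Ideal.add_mem _ (Ideal.mul_mem_left _ _ (Ideal.subset_span (Set.mem_insert _ _))) ?_
      have h1 : algebraMap A (Localization.AtPrime P) (g.coeff 0) ∈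
          Ideal.span (insert (algebraMap A _ s) (t : Set (Localization.AtPrime P))) := by
        rw [← ht]; exact (IsLocalization.AtPrime.to_map_mem_maximal_iff _ P _).2 ha
      have h2 := Ideal.mem_map_of_mem ρ h1
      rw [Ideal.map_span, Set.image_insert_eq, hρ, ← hy, map_pow] at h2
      refine (Ideal.span_le.2 ?_) h2
      rintro z (rfl | hz)
      · exact Ideal.pow_mem_of_mem _ (Ideal.subset_span (Set.mem_insert _ _)) e he
      · exact Ideal.subset_span (Set.mem_insert_of_mem _ hz)
    · intro g hg
      rw [Finset.mem_insert, Finset.mem_image] at hg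
      rcases hg with rfl | ⟨z, hz, rfl⟩
      · exact (IsLocalization.AtPrime.to_map_mem_maximal_iff _ Q y).2 hyQ
      · exact hρm z (ht ▸ Ideal.subset_span (Set.mem_insert_of_mem _ hz))
    · refine le_trans ?_ hcard
      exact_mod_cast (Finset.card_insert_le _ _).trans (Nat.add_le_add_right Finset.card_image_le 1)
  · haveI : IsRegularLocalRing (Localization.AtPrime P) := IsRegularRing.isRegularLocalRing_localization P
    obtain ⟨t, htc, ht⟩ := Submodule.FG.exists_span_finset_card_eq_spanFinrank
      (IsNoetherian.noetherian (maximalIdeal (Localization.AtPrime P)))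
    rw [Ideal.submodule_span_eq] at ht
    refine isRegularLocalRing_of_generators P Q (t.image ρ) ?_ ?_ ?_
    · rw [hmax, Ideal.map_le_iff_le_comap]
      intro x hx
      obtain ⟨z, hz, hzx⟩ := exists_mul_mem_map he s p hp Q P rfl heP hsP hx
      rw [Ideal.mem_comap, ← Ideal.unit_mul_mem_iff_mem _ (IsLocalization.map_units
        (Localization.AtPrime Q) (⟨z, hz⟩ : Q.primeCompl)), ← map_mul]
      have h := Ideal.mem_map_of_mem (algebraMap (AdjoinRoot p) (Localization.AtPrime Q)) hzx
      rw [Ideal.map_map] at h
      refine Ideal.map_le_iff_le_comap.2 (fun a ha => ?_) h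
      rw [Ideal.mem_comap, RingHom.comp_apply, ← hρ, Finset.coe_image, ← Ideal.map_span, ht]
      exact Ideal.mem_map_of_mem ρ ((IsLocalization.AtPrime.to_map_mem_maximal_iff _ P a).2 ha)
    · intro g hg
      rw [Finset.mem_image] at hg
      obtain ⟨z, hz, rfl⟩ := hg
      exact hρm z (ht ▸ Ideal.subset_span hz)
    · rw [← IsRegularLocalRing.spanFinrank_maximalIdeal (R := Localization.AtPrime P)]
      exact_mod_cast Finset.card_image_le.trans htc.le

end RichLib.CycCover
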